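import Cfsg.Agent.CosetEnum.Upper
import Cfsg.Agent.CosetEnum.WE8.Setup

set_option autoImplicit false

/-! Coset table of `Cfsg.Spor.WE8` on 16 cosets. -/

namespace CfsgLib.CosetEnum.WE8D

def t0 : ℕ := 0xf0000e0000c0000d00009000080000b0000a0000700006000050000400003000020000000001
def t1 : ℕ := 0xf0000d0000e0000c0000b0000a00007000060000900008000050000400003000010000200000
def t2 : ℕ := 0xf0000e0000b000090000d0000a0000c000080000700004000050000600002000030000100000
def t3 : ℕ := 0xf0000e0000d0000c0000a0000b00008000090000600007000030000400005000020000100000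
def t4 : ℕ := 0xe0000f0000d0000c0000b0000a00009000080000500003000070000200006000040000100000

/-- The packed table of a letter. -/
noncomputable def tb (x : ℕ) : ℕ := (Bool.rec (motive := fun _ => ℕ) (Bool.rec (motive := fun _ => ℕ) t0 t1 (Nat.ble 1 x)) (Bool.rec (motive := fun _ => ℕ) t2 (Bool.rec (motive := fun _ => ℕ) t3 t4 (Nat.ble 4 x)) (Nat.ble 3 x)) (Nat.ble 2 x))

def parN : ℕ := 0xe0000d0000b000090000900008000070000600005000030000300002000020000100000fffff
def parX : ℕ := 0x4000010000200002000000000000001000010000400004000030000400002000010000000000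

/-- Relators, then subgroup generators. -/
def allW : List (List ℕ) := [
  [0, 0],
  [0, 1, 0, 1, 0, 1],
  [0, 2, 0, 2],
  [0, 3, 0, 3],
  [0, 4, 0, 4],
  [1, 1],
  [1, 2, 1, 2, 1, 2],
  [1, 3, 1, 3],
  [1, 4, 1, 4, 1, 4],
  [2, 2],
  [2, 3, 2, 3, 2, 3],
  [2, 4, 2, 4],
  [3, 3],
  [3, 4, 3, 4],
  [4, 4],
  [1],
  [2],
  [3],
  [4]]

/-- The relators in local letters. -/
def rels : List (List ℕ) := [
  [0, 0],
  [0, 1, 0, 1, 0, 1],
  [0, 2, 0, 2],
  [0, 3, 0, 3],
  [0, 4, 0, 4],
  [1, 1],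
  [1, 2, 1, 2, 1, 2],
  [1, 3, 1, 3],
  [1, 4, 1, 4, 1, 4],
  [2, 2],
  [2, 3, 2, 3, 2, 3],
  [2, 4, 2, 4],
  [3, 3],
  [3, 4, 3, 4],
  [4, 4]]

/-- The enumeration. -/
noncomputable def enum : Local CfsgLib.CosetEnum.WE8.setup where
  L := [2, 3, 4, 5, 6]
  L' := [3, 4, 5, 6]
  known := []
  known_one := fun v hv => absurd hv List.not_mem_nil
  rels := rels
  rels_ok := by decide +kernel
  subs := [1, 2, 3, 4]
  subs_ok := by decide +kernel
  all := allW
  all_eq := by decide +kernel
  n := 16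
  tb := tb
  parN := parN
  parX := parX

/-- The word with a given index. -/
def wd (r : ℕ) : List ℕ := allW.getD r []

end CfsgLib.CosetEnum.WE8D
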